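import Groth.Prelude.Def_GmPts

set_option autoImplicit false

universe u

open CategoryTheory CategoryTheory.Limits MonoidalCategory CartesianMonoidalCategory MonObj AlgebraicGeometry Opposite

namespace Groth.Agent.KummerBG

variable {S : Scheme.{u}} {T T' : Over S}

/-- A root of the unit of a point gives a root of its restriction. -/
theorem pow_ptOfUnit_eq (h : T' ⟶ T) (a : T ⟶ Red.Gm S) (v : (Γ(T'.left, ⊤))ˣ) (n : ℕ)
    (hv : (v : Γ(T'.left, ⊤)) ^ n = h.left.appTop (GmPts.unitOfPt a : Γ(T.left, ⊤))) :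
    (GmPts.ptOfUnit v : T' ⟶ Red.Gm S) ^ n = h ≫ a := by
  refine (GmPts.equiv T').injective ?_
  rw [map_pow, GmPts.equiv_apply, GmPts.equiv_apply, GmPts.unitOfPt_ptOfUnit, GmPts.unitOfPt_comp]
  exact Units.ext hv

end Groth.Agent.KummerBG
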