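import Groth.Prelude.Def_StCoh
import Groth.Prelude.Def_GmPts
import Groth.Agent.QuotLib.Basic
import Groth.Agent.KummerBG.Pow
import Mathlib.RingTheory.AdjoinRoot
import Mathlib.CategoryTheory.Sites.EpiMono
import Mathlib.AlgebraicGeometry.Sites.Fpqc

/-!
# Roots of units fppf-locally, and the Kummer sequence on quotient stacks
-/

set_option autoImplicit false
set_option backward.isDefEq.respectTransparency false
set_option backward.isDefEq.respectTransparency.types false

universe u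

open CategoryTheory CategoryTheory.Limits MonoidalCategory CartesianMonoidalCategory MonObj GrpObj AlgebraicGeometry Opposite

namespace Groth.Agent.KummerBG

open Polynomial in
/-- An affine scheme has a faithfully flat finitely presented cover on which a function has a root. -/
theorem exists_root_cover_ring (R : CommRingCat.{u}) (c : R) (n : ℕ) (hn : 0 < n) :
    ∃ (B : CommRingCat.{u}) (φ : R ⟶ B) (t : B), Flat (Spec.map φ) ∧
      LocallyOfFinitePresentation (Spec.map φ) ∧ Surjective (Spec.map φ) ∧ t ^ n = φ.hom c := by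
  let f : R[X] := X ^ n - C c
  have hf : f.Monic := monic_X_pow_sub_C c hn.ne'
  haveI : Module.Free R (AdjoinRoot f) := hf.free_adjoinRoot
  haveI : Module.Finite R (AdjoinRoot f) := hf.finite_adjoinRoot
  refine ⟨CommRingCat.of (AdjoinRoot f), CommRingCat.ofHom (algebraMap R (AdjoinRoot f)), AdjoinRoot.root f,
    ?_, ?_, ⟨?_⟩, ?_⟩
  · rw [HasRingHomProperty.Spec_iff (P := @Flat)]
    exact RingHom.flat_algebraMap_iff.2 (inferInstanceAs (Module.Flat R (AdjoinRoot f)))
  · rw [HasRingHomProperty.Spec_iff (P := @LocallyOfFinitePresentation)]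
    exact (RingHom.finitePresentation_algebraMap.2 (Algebra.FinitePresentation.quotient (R := R) (A := R[X]) (I := Ideal.span {f}) ⟨{f}, by simp⟩) :)
  · rcases subsingleton_or_nontrivial R with hR | hR
    · intro x
      exact (x.2.ne_top (Subsingleton.elim _ _)).elim
    · intro x
      haveI : Module.FaithfullyFlat R (AdjoinRoot f) := by
        have hd : 0 < f.natDegree := by simpa [f] using hn
        haveI : Nontrivial (AdjoinRoot f) :=
          ⟨_, 0, (AdjoinRoot.powerBasis' hf).basis.ne_zero ⟨0, hd⟩⟩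
        infer_instance
      exact PrimeSpectrum.comap_surjective_of_faithfullyFlat x
  · have h := AdjoinRoot.eval₂_root f
    simp only [f, eval₂_sub, eval₂_X_pow, eval₂_C, sub_eq_zero] at h
    exact h

/-- The sieve of morphisms on which a function has an `n`-th root. -/
def rootSieve {U : Scheme.{u}} (c : Γ(U, ⊤)) (n : ℕ) : Sieve U where
  arrows V g := ∃ t : Γ(V, ⊤), t ^ n = g.appTop c
  downward_closed := by
    rintro V W g ⟨t, ht⟩ h
    exact ⟨h.appTop t, by rw [← map_pow, ht, Scheme.Hom.comp_appTop]; rfl⟩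

theorem rootSieve_mem {U : Scheme.{u}} (c : Γ(U, ⊤)) (n : ℕ) (hn : 0 < n) :
    rootSieve c n ∈ Scheme.fppfPrecoverage.toGrothendieck U := by
  let 𝒰 := U.affineCover
  have h : ∀ i, ∃ (B : CommRingCat.{u}) (g : Spec B ⟶ U), Flat g ∧ LocallyOfFinitePresentation g ∧
      Set.range g = Set.range (𝒰.f i) ∧ rootSieve c n g := by
    intro i
    let e : 𝒰.X i ≅ Spec Γ(𝒰.X i, ⊤) := (𝒰.X i).isoSpec
    obtain ⟨B, φ, t, h₁, h₂, h₃, ht⟩ := exists_root_cover_ring Γ(𝒰.X i, ⊤) ((𝒰.f i).appTop c) n hn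
    refine ⟨B, Spec.map φ ≫ e.inv ≫ 𝒰.f i, inferInstance, inferInstance, ?_, (Scheme.ΓSpecIso B).inv t, ?_⟩
    · rw [Scheme.Hom.comp_base, TopCat.coe_comp, Set.range_comp, h₃.surj.range_eq, Set.image_univ,
        Scheme.Hom.comp_base, TopCat.coe_comp, Set.range_comp, Set.range_eq_univ.2 e.inv.surjective, Set.image_univ]
    · rw [← map_pow, ht, Scheme.Hom.comp_appTop, Scheme.Hom.comp_appTop]
      have hnat := congr($(Scheme.ΓSpecIso_inv_naturality φ) ((𝒰.f i).appTop c))
      refine hnat.trans ?_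
      change (Spec.map φ).appTop ((Scheme.ΓSpecIso _).inv _) = (Spec.map φ).appTop (e.inv.appTop _)
      congr 1
      have h1 : (𝒰.X i).toSpecΓ.appTop = (Scheme.ΓSpecIso _).hom := Scheme.toSpecΓ_appTop _
      have h2 : e.inv.appTop ≫ (𝒰.X i).toSpecΓ.appTop = 𝟙 _ := by
        rw [← Scheme.Hom.comp_appTop, show (𝒰.X i).toSpecΓ ≫ e.inv = 𝟙 _ from e.hom_inv_id, Scheme.Hom.id_appTop]
      have h3 : e.inv.appTop = (Scheme.ΓSpecIso _).inv := by
        rw [h1] at h2
        rw [← Category.comp_id e.inv.appTop, ← Iso.hom_inv_id (Scheme.ΓSpecIso Γ(𝒰.X i, ⊤)), ← Category.assoc, h2,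
          Category.id_comp]
      rw [h3]
      rfl
  choose B g h₁ h₂ h₃ h₄ using h
  refine GrothendieckTopology.superset_covering _ (Sieve.generate_le_iff _ _ |>.2 ?_)
    (Precoverage.generate_mem_toGrothendieck (R := Presieve.ofArrows (fun i => Spec (B i)) g) ?_)
  · rintro V k ⟨i⟩
    exact h₄ i
  · refine (Scheme.ofArrows_mem_precoverage_iff _).2 ⟨fun x => ?_, fun i => ⟨h₁ i, h₂ i⟩⟩
    obtain ⟨i, y, hy⟩ := 𝒰.exists_eq x
    exact ⟨i, h₃ i ▸ ⟨y, hy⟩⟩

variable {S : Scheme.{u}} {G : Over S} [GrpObj G] {X : Over S} (aX : AlgGrp.Action G X)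

local notation "K₀" => Scheme.fppfPrecoverage

/-- The `n`-th power map on the multiplicative group of a quotient stack is an epimorphism. -/
theorem epi_powMap [StCoh.BaseCont K₀ (AlgSt.QuotSt K₀ G aX)] (n : ℕ) (hn : 0 < n) :
    Epi (StCoh.powMap K₀ (AlgSt.QuotSt K₀ G aX) n) := by
  refine (Sheaf.isLocallySurjective_iff_epi' _ _).1 ⟨fun {A} s => ?_⟩
  change AlgSt.QuotObj K₀ G aX at A
  let a : A.base ⟶ Red.Gm S := s.down.toMul
  refine Functor.mem_restrictedTopology_of_functorPushforward_mem ?_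
  rw [GrothendieckTopology.mem_over_iff]
  obtain ⟨R₀, hR₀, hsec⟩ := A.loc
  refine GrothendieckTopology.superset_covering _ ?_
    (GrothendieckTopology.intersection_covering _ (Precoverage.generate_mem_toGrothendieck hR₀)
      (rootSieve_mem (GmPts.unitOfPt a : Γ(A.base.left, ⊤)) n hn))
  rintro T h ⟨⟨T₀, p, q, hq, hpq⟩, t, ht⟩
  obtain ⟨w, hw⟩ := hsec q hq
  have htu : IsUnit t := (isUnit_pow_iff hn.ne').1 (ht ▸ (GmPts.unitOfPt a).isUnit.map _)
  let T' : Over S := Over.mk (h ≫ A.base.hom)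
  let h' : T' ⟶ A.base := Over.homMk h rfl
  have hbπ : (p ≫ w) ≫ A.π.left = h := by
    rw [Category.assoc]
    exact (congrArg (p ≫ ·) hw).trans hpq
  let b : T' ⟶ A.P := Over.homMk (p ≫ w) (by
    rw [← Over.w A.π, ← Category.assoc, hbπ]
    rfl)
  have hb : b ≫ A.π = h' := Over.OverMorphism.ext hbπ
  rw [Sieve.overEquiv_iff]
  refine ⟨QuotLib.triv K₀ G aX (b ≫ A.φ), QuotLib.trivHom A b _ rfl, 𝟙 _,
    ⟨ULift.up (Additive.ofMul (GmPts.ptOfUnit htu.unit : T' ⟶ Red.Gm S)), ?_⟩, ?_⟩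
  · refine ULift.ext _ _ ?_
    refine Eq.trans (show _ = Additive.ofMul ((GmPts.ptOfUnit htu.unit : T' ⟶ Red.Gm S) ^ n) from rfl)
      (congrArg Additive.ofMul (pow_ptOfUnit_eq (b ≫ A.π) a htu.unit n ?_))
    rw [hb]
    exact ht
  · refine Over.OverMorphism.ext ?_
    exact ((Category.id_comp _).trans hbπ).symm

end Groth.Agent.KummerBG
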