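import Mathlib.Algebra.Homology.DerivedCategory.Ext.ExactSequences
import Mathlib.GroupTheory.QuotientGroup.Basic

/-!
# The Kummer sequence in an abelian category
-/

set_option autoImplicit false

universe w v u

open CategoryTheory CategoryTheory.Limits CategoryTheory.Abelian

namespace Groth.Agent.KummerBG

variable {C : Type u} [Category.{v} C] [Abelian C] [HasExt.{w} C] (A : C) {M : C} (n : ℕ)

theorem comp_mk₀_nsmul {q : ℕ} (x : Ext A M q) :
    x.comp (Ext.mk₀ (n • 𝟙 M)) (add_zero q) = n • x := by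
  rw [show Ext.mk₀ (n • 𝟙 M) = n • Ext.mk₀ (𝟙 M) from map_nsmul (Ext.addEquiv₀.symm : (M ⟶ M) ≃+ _) n _,
    show x.comp (n • Ext.mk₀ (𝟙 M)) (add_zero q) = n • x.comp (Ext.mk₀ (𝟙 M)) (add_zero q) from
      map_nsmul ((Ext.bilinearComp _ M M q 0 q (add_zero _)) x) n _, Ext.comp_mk₀_id]

variable (M) in
/-- The exact sequences of multiplication by `n` when it is an epimorphism. -/
theorem kummer_exact [Epi (n • 𝟙 M)] (q : ℕ) :
    (((Ext.mk₀ (kernel.ι (n • 𝟙 M))).postcomp A (add_zero (q + 1))).range =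
        (DistribSMul.toAddMonoidHom (Ext A M (q + 1)) n).ker) ∧
      Nonempty (((Ext.mk₀ (kernel.ι (n • 𝟙 M))).postcomp A (add_zero (q + 1))).ker ≃+
        Ext A M q ⧸ (DistribSMul.toAddMonoidHom (Ext A M q) n).range) := by
  let S : ShortComplex C := ShortComplex.mk (kernel.ι (n • 𝟙 M)) (n • 𝟙 M) (kernel.condition _)
  have hS : S.ShortExact :=
    { exact := ShortComplex.exact_of_f_is_kernel S (kernelIsKernel _)
      mono_f := inferInstanceAs (Mono (kernel.ι (n • 𝟙 M)))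
      epi_g := inferInstanceAs (Epi (n • 𝟙 M)) }
  let δ : Ext A M q →+ Ext A (kernel (n • 𝟙 M)) (q + 1) := hS.extClass.postcomp A (rfl : q + 1 = q + 1)
  have hrange : δ.range = ((Ext.mk₀ (kernel.ι (n • 𝟙 M))).postcomp A (add_zero (q + 1))).ker := by
    ext x
    refine ⟨?_, fun hx => Ext.covariant_sequence_exact₁ A hS x hx (rfl : q + 1 = q + 1)⟩
    rintro ⟨y, rfl⟩
    show (y.comp hS.extClass (rfl : q + 1 = q + 1)).comp (Ext.mk₀ S.f) (add_zero _) = 0
    rw [Ext.comp_assoc_of_third_deg_zero, ShortComplex.ShortExact.extClass_comp, Ext.comp_zero]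
  have hker : δ.ker = (DistribSMul.toAddMonoidHom (Ext A M q) n).range := by
    ext x
    refine ⟨fun hx => ?_, ?_⟩
    · obtain ⟨y, hy⟩ := Ext.covariant_sequence_exact₃ A hS x rfl hx
      exact ⟨y, (comp_mk₀_nsmul A n y).symm.trans hy⟩
    · rintro ⟨y, rfl⟩
      show (n • y).comp hS.extClass (rfl : q + 1 = q + 1) = 0
      rw [← comp_mk₀_nsmul A n y, Ext.comp_assoc_of_second_deg_zero]
      show y.comp ((Ext.mk₀ S.g).comp hS.extClass (zero_add 1)) (rfl : q + 1 = q + 1) = 0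
      rw [ShortComplex.ShortExact.comp_extClass, Ext.comp_zero]
  refine ⟨?_, ⟨((QuotientAddGroup.quotientAddEquivOfEq hker.symm).trans
    ((QuotientAddGroup.quotientKerEquivRange δ).trans (AddEquiv.addSubgroupCongr hrange))).symm⟩⟩
  ext x
  refine ⟨?_, fun hx => Ext.covariant_sequence_exact₂ A hS x ((comp_mk₀_nsmul A n x).trans hx)⟩
  rintro ⟨y, rfl⟩
  show n • (y.comp (Ext.mk₀ S.f) (add_zero (q + 1))) = 0
  rw [← comp_mk₀_nsmul A n, Ext.comp_assoc_of_third_deg_zero]
  show y.comp ((Ext.mk₀ S.f).comp (Ext.mk₀ S.g) (add_zero 0)) (add_zero (q + 1)) = 0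
  rw [Ext.mk₀_comp_mk₀, S.zero, Ext.mk₀_zero, Ext.comp_zero]

end Groth.Agent.KummerBG
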